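import Mathlib.AlgebraicGeometry.Morphisms.Finite
import Mathlib.RingTheory.Algebraic.Integral
import Mathlib.RingTheory.Jacobson.Ring
import Mathlib.RingTheory.Artinian.Ring

/-!
Finite type points: a point is of finite type iff it is closed in some affine open; finite type maps from fields
and from Artinian local rings.
-/

set_option autoImplicit false
universe u

open AlgebraicGeometry CategoryTheory

namespace Groth.Agent.FtPoint

/-- If a field `K` is of finite type over `R`, some `f` outside the kernel `p` makes `p` maximal in `R_f`. -/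
theorem exists_notMem_isolated {R K : Type u} [CommRing R] [Field K] (φ : R →+* K) (hφ : φ.FiniteType) :
    ∃ f : R, φ f ≠ 0 ∧ ∀ q : Ideal R, q.IsPrime → RingHom.ker φ ≤ q → f ∉ q → q = RingHom.ker φ := by
  classical
  let R' := R ⧸ RingHom.ker φ
  haveI : (RingHom.ker φ).IsPrime := RingHom.ker_isPrime φ
  letI : Algebra R' K := (RingHom.kerLift φ).toAlgebra
  letI : Algebra R K := φ.toAlgebra
  haveI : IsScalarTower R R' K := IsScalarTower.of_algebraMap_eq fun r => rfl
  haveI hFT : Algebra.FiniteType R K := hφ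
  haveI : Algebra.FiniteType R' K := Algebra.FiniteType.of_restrictScalars_finiteType R R' K
  haveI : FaithfulSMul R' K := (faithfulSMul_iff_algebraMap_injective R' K).2 (RingHom.kerLift_injective φ)
  letI : Algebra (FractionRing R') K := FractionRing.liftAlgebra R' K
  haveI : Algebra.FiniteType (FractionRing R') K :=
    Algebra.FiniteType.of_restrictScalars_finiteType R' (FractionRing R') K
  haveI : Module.Finite (FractionRing R') K := finite_of_finite_type_of_isJacobsonRing _ _
  haveI : Algebra.IsAlgebraic R' K :=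
    (IsFractionRing.comap_isAlgebraic_iff (A := R') (K := FractionRing R') (C := K)).2
      (Algebra.IsAlgebraic.of_finite (FractionRing R') K)
  obtain ⟨s, hs⟩ := (inferInstance : Algebra.FiniteType R' K).out
  have hex : ∀ x : K, ∃ y : R', y ≠ 0 ∧ IsIntegral R' (y • x) := fun x =>
    (Algebra.IsAlgebraic.isAlgebraic (R := R') x).exists_integral_multiple
  choose y hy0 hy using hex
  obtain ⟨f, hf⟩ := Ideal.Quotient.mk_surjective (∏ x ∈ s, y x)
  have hfK : algebraMap R' K (∏ x ∈ s, y x) = φ f := by rw [← hf]; rfl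
  have hf0 : φ f ≠ 0 := by
    rw [← hfK]
    exact (map_ne_zero_iff (algebraMap R' K) (RingHom.kerLift_injective φ)).2
      (Finset.prod_ne_zero_iff.2 fun x _ => hy0 x)
  refine ⟨f, hf0, fun q hq hpq hfq => le_antisymm ?_ hpq⟩
  have hall : ∀ x : K, ∃ n : ℕ, IsIntegral R' (φ f ^ n * x) := by
    intro x
    have hx : x ∈ Algebra.adjoin R' (s : Set K) := hs.symm ▸ Algebra.mem_top
    induction hx using Algebra.adjoin_induction with
    | mem a ha =>
      refine ⟨1, ?_⟩
      rw [pow_one, ← hfK, ← Finset.prod_erase_mul s y ha, map_mul, mul_assoc, ← Algebra.smul_def (y a) a]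
      exact (isIntegral_algebraMap).mul (hy a)
    | algebraMap r => exact ⟨0, by rw [pow_zero, one_mul]; exact isIntegral_algebraMap⟩
    | add a b _ _ iha ihb =>
      obtain ⟨m, hm⟩ := iha
      obtain ⟨n, hn⟩ := ihb
      have hfi : IsIntegral R' (φ f) := hfK ▸ isIntegral_algebraMap
      refine ⟨m + n, ?_⟩
      have : φ f ^ (m + n) * (a + b) = φ f ^ n * (φ f ^ m * a) + φ f ^ m * (φ f ^ n * b) := by ring
      rw [this]
      exact ((hfi.pow n).mul hm).add ((hfi.pow m).mul hn)
    | mul a b _ _ iha ihb =>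
      obtain ⟨m, hm⟩ := iha
      obtain ⟨n, hn⟩ := ihb
      refine ⟨m + n, ?_⟩
      rw [show φ f ^ (m + n) * (a * b) = (φ f ^ m * a) * (φ f ^ n * b) by ring]
      exact hm.mul hn
  intro r hr
  by_contra hrp
  have hr0 : φ r ≠ 0 := hrp
  obtain ⟨n, hn⟩ := hall (φ r)⁻¹
  -- push integrality down: `x := f^n / r` integral gives `f^(n m) ∈ (r) + p`
  obtain ⟨P, hP, hPx⟩ := hn
  obtain ⟨Q, hQ, -, hQm⟩ := Polynomial.lifts_and_natDegree_eq_and_monic (f := (Ideal.Quotient.mk (RingHom.ker φ) : R →+* R'))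
    ((Polynomial.mem_lifts P).2 (Polynomial.map_surjective _ Ideal.Quotient.mk_surjective P)) hP
  have h1 : Q.eval₂ φ (φ f ^ n * (φ r)⁻¹) = 0 := by
    rw [← hQ, Polynomial.eval₂_map] at hPx
    exact hPx
  have h2 : ∀ i, φ r ^ i * (φ f ^ n * (φ r)⁻¹) ^ i = φ (f ^ (n * i)) := fun i => by
    rw [← mul_pow, mul_left_comm, mul_inv_cancel₀ hr0, mul_one, ← pow_mul, map_pow]
  rw [Polynomial.eval₂_eq_sum_range, Finset.sum_range_succ, hQm.coeff_natDegree, map_one, one_mul] at h1
  have h3 := congrArg (fun z => φ r ^ Q.natDegree * z) h1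
  simp only [mul_add, Finset.mul_sum, mul_zero, h2] at h3
  have h4 : ∀ i ∈ Finset.range Q.natDegree,
      φ r ^ Q.natDegree * (φ (Q.coeff i) * (φ f ^ n * (φ r)⁻¹) ^ i) =
        φ (Q.coeff i * f ^ (n * i) * r ^ (Q.natDegree - i)) := fun i hi => by
    rw [map_mul, map_mul, ← h2, map_pow,
      ← Nat.sub_add_cancel (Finset.mem_range.1 hi).le, pow_add, Nat.add_sub_cancel]
    ring
  rw [Finset.sum_congr rfl h4, ← map_sum, ← map_add] at h3
  have h5 : f ^ (n * Q.natDegree) ∈ q := by
    have hmem : ∑ i ∈ Finset.range Q.natDegree, Q.coeff i * f ^ (n * i) * r ^ (Q.natDegree - i) ∈ q :=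
      q.sum_mem fun i hi => q.mul_mem_left _ (q.pow_mem_of_mem hr _ (Nat.sub_pos_of_lt (Finset.mem_range.1 hi)))
    exact (q.add_mem_iff_right hmem).1 (hpq h3)
  exact hfq (hq.mem_of_pow_mem _ h5)

/-- A morphism from the spectrum of a local ring factors through any affine open containing the image of
the closed point. -/
theorem exists_factor {S : Scheme.{u}} {A : Type u} [CommRing A] [IsLocalRing A]
    (g : Spec (CommRingCat.of A) ⟶ S) {V : S.Opens} (hV : IsAffineOpen V)
    (hg : g.base (IsLocalRing.closedPoint A) ∈ V) :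
    ∃ ψ : Γ(S, V) ⟶ CommRingCat.of A, g = Spec.map ψ ≫ hV.fromSpec := by
  have hsub : Set.range g.base ⊆ Set.range hV.fromSpec.base := by
    rw [hV.range_fromSpec]
    rintro _ ⟨p, rfl⟩
    exact ((IsLocalRing.specializes_closedPoint p).map g.base.hom.continuous).mem_open V.isOpen hg
  obtain ⟨ψ, hψ⟩ := Spec.map_surjective (IsOpenImmersion.lift hV.fromSpec g hsub)
  exact ⟨ψ, by rw [hψ, IsOpenImmersion.lift_fac]⟩

theorem lft_iff_finiteType {S : Scheme.{u}} {A : Type u} [CommRing A]
    {g : Spec (CommRingCat.of A) ⟶ S} {V : S.Opens} {hV : IsAffineOpen V} {ψ : Γ(S, V) ⟶ CommRingCat.of A}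
    (h : g = Spec.map ψ ≫ hV.fromSpec) : LocallyOfFiniteType g ↔ ψ.hom.FiniteType := by
  rw [← HasRingHomProperty.Spec_iff (P := @LocallyOfFiniteType), h]
  exact ⟨fun _ => locallyOfFiniteType_of_comp _ hV.fromSpec, fun _ => inferInstance⟩

/-- The image of a finite type morphism from the spectrum of a field is closed in some affine open. -/
theorem exists_affine_isClosed {S : Scheme.{u}} {K : Type u} [Field K] (g : Spec (CommRingCat.of K) ⟶ S)
    [hg : LocallyOfFiniteType g] :
    ∃ U : S.Opens, IsAffineOpen U ∧ ∃ hu : g.base (IsLocalRing.closedPoint K) ∈ U,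
      IsClosed ({⟨g.base (IsLocalRing.closedPoint K), hu⟩} : Set ↥U) := by
  obtain ⟨_, ⟨V, hV, rfl⟩, hgV, -⟩ := S.isBasis_affineOpens.exists_subset_of_mem_open
    (Set.mem_univ (g.base (IsLocalRing.closedPoint K))) isOpen_univ
  obtain ⟨ψ, hψ⟩ := exists_factor g hV hgV
  obtain ⟨f, hf, hiso⟩ := exists_notMem_isolated ψ.hom ((lft_iff_finiteType hψ).1 hg)
  let p : PrimeSpectrum Γ(S, V) := ⟨RingHom.ker ψ.hom, RingHom.ker_isPrime _⟩
  have hp : g.base (IsLocalRing.closedPoint K) = hV.fromSpec.base p := by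
    rw [hψ]
    refine congrArg hV.fromSpec.base (PrimeSpectrum.ext ?_)
    show (IsLocalRing.maximalIdeal K).comap ψ.hom = RingHom.ker ψ.hom
    rw [IsLocalRing.maximalIdeal_eq_bot]; rfl
  have hmem : ∀ q : PrimeSpectrum Γ(S, V), hV.fromSpec.base q ∈ S.basicOpen f ↔ f ∉ q.asIdeal := by
    intro q
    show q ∈ hV.fromSpec ⁻¹ᵁ S.basicOpen f ↔ _
    rw [hV.fromSpec_preimage_basicOpen]
    exact PrimeSpectrum.mem_basicOpen f q
  refine ⟨S.basicOpen f, hV.basicOpen f, ?_, ?_⟩
  · rw [hp, hmem]; exact hf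
  · refine isClosed_of_closure_subset fun z hz => ?_
    obtain ⟨q, hq⟩ : z.1 ∈ Set.range hV.fromSpec.base := by
      rw [hV.range_fromSpec]; exact S.basicOpen_le f z.2
    have hspec : hV.fromSpec.base p ⤳ hV.fromSpec.base q := by
      rw [← hp, hq]
      exact (specializes_iff_mem_closure.2 hz).map continuous_subtype_val
    rw [hV.fromSpec.isOpenEmbedding.isInducing.specializes_iff] at hspec
    have := hiso q.asIdeal q.isPrime ((PrimeSpectrum.le_iff_specializes p q).2 hspec) ((hmem q).1 (hq ▸ z.2))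
    refine Set.mem_singleton_iff.2 (Subtype.ext ?_)
    show z.1 = g.base (IsLocalRing.closedPoint K)
    rw [hp, ← hq, PrimeSpectrum.ext (show q.asIdeal = p.asIdeal from this)]

/-- A point closed in an open neighbourhood is a finite type point. -/
theorem lft_of_isClosed {S : Scheme.{u}} {s : S} {U : S.Opens} (hs : s ∈ U)
    (h : IsClosed ({⟨s, hs⟩} : Set ↥U)) : LocallyOfFiniteType (S.fromSpecResidueField s) := by
  haveI := (isClosed_singleton_iff_isClosedImmersion (X := U.toScheme) (x := ⟨s, hs⟩)).1 h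
  have h1 : LocallyOfFiniteType (Spec.map (U.ι.residueFieldMap ⟨s, hs⟩) ≫ S.fromSpecResidueField (U.ι.base ⟨s, hs⟩)) := by
    rw [Scheme.Hom.SpecMap_residueFieldMap_fromSpecResidueField]; infer_instance
  rwa [MorphismProperty.cancel_left_of_respectsIso (P := @LocallyOfFiniteType)] at h1

/-- Finite type points are the points closed in an affine open neighbourhood. -/
theorem lft_iff_exists_isClosed {S : Scheme.{u}} {s : S} :
    LocallyOfFiniteType (S.fromSpecResidueField s) ↔
      ∃ U : S.Opens, IsAffineOpen U ∧ ∃ hs : s ∈ U, IsClosed ({⟨s, hs⟩} : Set ↥U) := by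
  refine ⟨fun _ => ?_, fun ⟨U, _, hs, h⟩ => lft_of_isClosed hs h⟩
  obtain ⟨U, hU, hu, hc⟩ := exists_affine_isClosed (K := S.residueField s) (S.fromSpecResidueField s)
  have he : (S.fromSpecResidueField s).base (IsLocalRing.closedPoint (S.residueField s)) = s :=
    S.fromSpecResidueField_apply s _
  refine ⟨U, hU, he ▸ hu, ?_⟩
  convert! hc
  exact he.symm

/-- Every nonempty locally closed subset contains a finite type point. -/
theorem exists_mem_of_isLocallyClosed {S : Scheme.{u}} {Z : Set S} (hZ : IsLocallyClosed Z) (hne : Z.Nonempty) :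
    (Z ∩ {s : S | LocallyOfFiniteType (S.fromSpecResidueField s)}).Nonempty := by
  obtain ⟨O, C, hO, hC, rfl⟩ := hZ
  obtain ⟨z, hzO, hzC⟩ := hne
  obtain ⟨_, ⟨U, hU, rfl⟩, hzU, hUO⟩ := S.isBasis_affineOpens.exists_subset_of_mem_open hzO hO
  haveI : CompactSpace ↥U := isCompact_iff_compactSpace.1 hU.isCompact
  obtain ⟨w, hw, hwc⟩ := IsClosed.exists_closed_singleton (S := (Subtype.val ⁻¹' C : Set ↥U))
    (hC.preimage continuous_subtype_val) ⟨⟨z, hzU⟩, hzC⟩
  exact ⟨w.1, ⟨hUO w.2, hw⟩, lft_of_isClosed w.2 hwc⟩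

/-- Lifting finite type along a nilpotent finitely generated ideal. -/
theorem finiteType_of_quotient {R A : Type u} [CommRing R] [CommRing A] (φ : R →+* A) (I : Ideal A)
    (hI : IsNilpotent I) (hfg : I.FG) (h : ((Ideal.Quotient.mk I).comp φ).FiniteType) : φ.FiniteType := by
  classical
  letI : Algebra R A := φ.toAlgebra
  haveI : Algebra.FiniteType R (A ⧸ I) := h
  obtain ⟨s, hs⟩ := (inferInstance : Algebra.FiniteType R (A ⧸ I)).out
  obtain ⟨G, hG⟩ := hfg
  let T : Finset A := s.image (Function.surjInv Ideal.Quotient.mk_surjective) ∪ G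
  let S₀ := Algebra.adjoin R (T : Set A)
  have hdec : ∀ a : A, ∃ t ∈ S₀, a - t ∈ I := by
    intro a
    have hmap : (Algebra.adjoin R (T : Set A)).map (Ideal.Quotient.mkₐ R I) = ⊤ := by
      rw [AlgHom.map_adjoin, ← top_le_iff, ← hs]
      refine Algebra.adjoin_mono fun x hx => ⟨_, Finset.mem_union_left _ (Finset.mem_image_of_mem _ hx), ?_⟩
      exact Function.surjInv_eq Ideal.Quotient.mk_surjective x
    obtain ⟨t, ht, hta⟩ : Ideal.Quotient.mkₐ R I a ∈ (Algebra.adjoin R (T : Set A)).map (Ideal.Quotient.mkₐ R I) :=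
      hmap.symm ▸ Algebra.mem_top
    exact ⟨t, ht, Ideal.Quotient.eq.1 hta.symm⟩
  have hI2 : ∀ i ∈ I, ∃ t ∈ S₀, i - t ∈ I * I := by
    intro i hi
    rw [← hG] at hi
    induction hi using Submodule.span_induction with
    | mem g hg => exact ⟨g, Algebra.subset_adjoin (Finset.mem_union_right _ hg), by simp⟩
    | zero => exact ⟨0, zero_mem _, by simp⟩
    | add x y _ _ hx hy =>
      obtain ⟨tx, htx, hx'⟩ := hx
      obtain ⟨ty, hty, hy'⟩ := hy
      exact ⟨tx + ty, add_mem htx hty, by rw [add_sub_add_comm]; exact add_mem hx' hy'⟩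
    | smul a x hxspan hx =>
      obtain ⟨tx, htx, hx'⟩ := hx
      obtain ⟨ta, hta, ha'⟩ := hdec a
      refine ⟨ta * tx, mul_mem hta htx, ?_⟩
      have hxI : x ∈ I := hG ▸ hxspan
      have htxI : tx ∈ I := by simpa using I.sub_mem hxI (Ideal.mul_le_right hx')
      rw [smul_eq_mul, show a * x - ta * tx = a * (x - tx) + (a - ta) * tx by ring]
      exact add_mem (Ideal.mul_mem_left _ _ hx') (Ideal.mul_mem_mul ha' htxI)
  have hn : ∀ (n : ℕ), ∀ x ∈ I ^ n, ∃ t ∈ S₀, x - t ∈ I ^ (n + 1) := by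
    intro n
    induction n with
    | zero => intro x _; simpa using hdec x
    | succ n ih =>
      intro x hx
      rw [pow_succ] at hx
      induction hx using Submodule.mul_induction_on' with
      | mem_mul_mem y hy i hi =>
        obtain ⟨t, ht, hyt⟩ := ih y hy
        obtain ⟨c, hc, hic⟩ := hI2 i hi
        refine ⟨t * c, mul_mem ht hc, ?_⟩
        have hcI : c ∈ I := by simpa using I.sub_mem hi (Ideal.mul_le_right hic)
        rw [show y * i - t * c = y * (i - c) + (y - t) * c by ring]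
        refine add_mem ?_ ?_
        · have := Ideal.mul_mem_mul hy hic
          rwa [← pow_two, ← pow_add] at this
        · rw [pow_succ]; exact Ideal.mul_mem_mul hyt hcI
      | add y _ z _ hy hz =>
        obtain ⟨ty, hty, hy'⟩ := hy
        obtain ⟨tz, htz, hz'⟩ := hz
        exact ⟨ty + tz, add_mem hty htz, by rw [add_sub_add_comm]; exact add_mem hy' hz'⟩
  have hall : ∀ (n : ℕ) (a : A), ∃ t ∈ S₀, a - t ∈ I ^ n := by
    intro n
    induction n with
    | zero => exact fun a => ⟨0, zero_mem _, by simp⟩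
    | succ n ih =>
      intro a
      obtain ⟨t, ht, hat⟩ := ih a
      obtain ⟨c, hc, hac⟩ := hn n _ hat
      exact ⟨t + c, add_mem ht hc, by rwa [← sub_sub]⟩
  obtain ⟨N, hN⟩ := hI
  show Algebra.FiniteType R A
  refine ⟨⟨T, eq_top_iff.2 fun a _ => ?_⟩⟩
  obtain ⟨t, ht, hat⟩ := hall N a
  rw [hN, Ideal.zero_eq_bot, Ideal.mem_bot, sub_eq_zero] at hat
  exact hat ▸ ht

end Groth.Agent.FtPoint
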